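import Groth.Agent.Lib.CI20.Results
import Groth.Agent.Lib.CI20.Hypersurface
import Groth.Agent.Lib.CotTangent.Components
import Groth.Agent.Lib.SerrePn27.Dualizing

/-!
Dimension of complete intersections in projective space.
-/

set_option autoImplicit false
set_option backward.isDefEq.respectTransparency false

universe u

open CategoryTheory AlgebraicGeometry TopologicalSpace

namespace GrothLib.HypCI12

variable {k : Type u} [Field k] {n r : ℕ} {a : Fin r → ℕ} (G : ∀ l, LefPen.Form n k (a l))

/-- At most `n` forms of positive degree have a common zero in `P^n`. -/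
theorem nonempty_ci (hr : r ≤ n) (ha : ∀ l, 1 ≤ a l) : Nonempty ↥(LefPen.ciIdeal G).subscheme := by
  classical
  let F : Finset (MvPolynomial (Fin (n + 1)) k) := Finset.univ.image fun l => (G l : MvPolynomial (Fin (n + 1)) k)
  let I : Ideal (MvPolynomial (Fin (n + 1)) k) := Ideal.span (Set.range fun l => (G l : MvPolynomial (Fin (n + 1)) k))
  have hI : I.IsHomogeneous (CohB1.polyGrading n k) :=
    Ideal.homogeneous_span _ _ (by rintro _ ⟨j, rfl⟩; exact ⟨a j, (G j).2⟩)
  have hne : I ≤ ProjDim.mIdeal k n := Ideal.span_le.2 (by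
    rintro _ ⟨j, rfl⟩
    rw [SetLike.mem_coe, ProjDim.mem_mIdeal]
    exact MvPolynomial.IsHomogeneous.coeff_eq_zero ((G j).2 : MvPolynomial.IsHomogeneous _ _)
      (by rw [map_zero]; have := ha j; omega))
  have : (ProjDim.mIdeal k n).IsPrime := inferInstance
  obtain ⟨q, hq, -⟩ := Ideal.exists_minimalPrimes_le hne
  have : (⊥ : Ideal (MvPolynomial (Fin (n + 1)) k)).IsPrime := Ideal.isPrime_bot
  have h := ProjDim.dim_le_dim_add_card (⊥ : Ideal (MvPolynomial (Fin (n + 1)) k)) F (q := q)
    (by rw [bot_sup_eq, show (F : Set (MvPolynomial (Fin (n + 1)) k)) = Set.range _ by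
          rw [Finset.coe_image, Finset.coe_univ, Set.image_univ]]; exact hq)
  rw [ringKrullDim_eq_of_ringEquiv (RingEquiv.quotientBot _), MvPolynomial.ringKrullDim_of_isNoetherianRing,
    ringKrullDim_eq_zero_of_field, zero_add] at h
  have := hq.1.1
  obtain ⟨d, hd⟩ := ProjDim.exists_nat_dim_quotient q
  rw [hd] at h
  have hcard : F.card ≤ r := Finset.card_image_le.trans (by simp)
  have h' : n + 1 ≤ d + F.card := by
    simpa [Nat.card_eq_fintype_card] using (by exact_mod_cast h : Nat.card (Fin (n + 1)) ≤ _)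
  obtain ⟨z, -, hz⟩ := ProjDim.exists_point_of_minimalPrime hI hq (by rw [hd]; exact_mod_cast (show 1 ≤ d by omega))
  obtain ⟨e⟩ := CI20.exists_homeo G
  exact ⟨e.symm ⟨z, hz⟩⟩

/-- A smooth complete intersection has the expected dimension. -/
theorem dim_of_smooth (hr : r ≤ n) (ha : ∀ l, 1 ≤ a l) (d : ℕ)
    [SmoothOfRelativeDimension d ((LefPen.ciIdeal G).subschemeι ≫ CohB1.ProjSpace.toSpec n k)] :
    topologicalKrullDim ↥(LefPen.ciIdeal G).subscheme = (d : WithBot ℕ∞) := by
  let f := (LefPen.ciIdeal G).subschemeι ≫ CohB1.ProjSpace.toSpec n k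
  have := Chow.isProper_toSpec n k
  have : IsProper f := inferInstance
  have : CompactSpace ↥(LefPen.ciIdeal G).subscheme := QuasiCompact.compactSpace_of_compactSpace f
  have hc := fun Z hZ => CotTangent.topologicalKrullDim_component_of_smooth f d Z hZ
  refine le_antisymm (SerrePn27.topologicalKrullDim_le_of_components fun Z hZ => (hc Z hZ).le) ?_
  obtain ⟨x⟩ := nonempty_ci G hr ha
  rw [← hc _ (irreducibleComponent_mem_irreducibleComponents x)]
  exact topologicalKrullDim_subspace_le _ _

/-- A nonzero hypersurface has dimension one less. -/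
theorem dim_hyp {e : ℕ} (he : 1 ≤ e) (Q : LefPen.Form (n + 1) k e) (hQ : Q ≠ 0) :
    topologicalKrullDim ↥(LefPen.ciIdeal fun _ : Fin 1 => Q).subscheme = (n : WithBot ℕ∞) := by
  refine le_antisymm ?_ ?_
  · have hI : LefPen.ciIdeal (fun _ : Fin 1 => Q) = LefPen.hypIdeal Q := iSup_const
    obtain ⟨eI⟩ := CI20.nonempty_idealMod_hyp Q hQ
    rw [hI]
    exact CI20.dim_subscheme_le _ (CI20.ne_bot _ eI)
  · obtain ⟨x⟩ := nonempty_ci (fun _ : Fin 1 => Q) (by omega : 1 ≤ n + 1) fun _ => he
    exact le_trans (CI20.le_dim_component (fun _ : Fin 1 => Q) (irreducibleComponent_mem_irreducibleComponents x))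
      (topologicalKrullDim_subspace_le _ _)

end GrothLib.HypCI12
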