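import Groth.Agent.Lib.HypCI12.Dim

/-!
The top cohomology of the twisted structure sheaves of a complete intersection.
-/

set_option autoImplicit false
set_option linter.style.haveILetI false
set_option maxHeartbeats 1000000
set_option backward.isDefEq.respectTransparency false

universe u

open CategoryTheory CategoryTheory.Limits AlgebraicGeometry TopologicalSpace
open GrothLib.Cohom (hhMap hhDelta)

noncomputable section

namespace GrothLib.HypCI12

/-- `binom(x + q, q)` for an integer `x` -/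
def g (q : ℕ) (x : ℤ) : ℕ := Nat.choose (x + (q : ℤ)).toNat q

theorem g_eq_zero {q : ℕ} (hq : 1 ≤ q) {x : ℤ} (hx : x < 0) : g q x = 0 :=
  Nat.choose_eq_zero_of_lt (by omega)

theorem g_pos (q : ℕ) {x : ℤ} (hx : 0 ≤ x) : 0 < g q x := Nat.choose_pos (by omega)

theorem g_succ {q : ℕ} (hq : 1 ≤ q) (x : ℤ) : g (q + 1) x = g (q + 1) (x - 1) + g q x := by
  rcases lt_or_ge x 0 with hx | hx
  · rw [g_eq_zero (by omega) hx, g_eq_zero (by omega) (by omega), g_eq_zero hq hx]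
  · obtain ⟨y, rfl⟩ := Int.eq_ofNat_of_zero_le hx
    simp only [g]
    rw [show ((y : ℤ) + ((q + 1 : ℕ) : ℤ)).toNat = y + q + 1 by omega,
      show ((y : ℤ) - 1 + ((q + 1 : ℕ) : ℤ)).toNat = y + q by omega,
      show ((y : ℤ) + (q : ℤ)).toNat = y + q by omega, Nat.choose_succ_succ' (y + q) q]
    omega

theorem g_sub {q : ℕ} (hq : 1 ≤ q) (a : ℕ) (x : ℤ) :
    g (q + 1) x = g (q + 1) (x - a) + ∑ i ∈ Finset.range a, g q (x - i) := by
  induction a with
  | zero => simp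
  | succ a ih =>
    rw [Finset.sum_range_succ, ih, g_succ hq (x - a), show x - (a : ℤ) - 1 = x - ((a + 1 : ℕ) : ℤ) by push_cast; ring]
    omega

theorem sum_step {ι : Type} [Fintype ι] (σ : ι → ℕ) {q : ℕ} (hq : 1 ≤ q) {m : ℕ} (a : Fin (m + 1) → ℕ) (n c : ℤ) :
    (∑ i, g (q + 1) ((∑ l : Fin m, (a l.castSucc : ℤ)) - n - 1 - (-(a (Fin.last m) : ℤ) + c) - σ i)) =
      (∑ x : ι × Fin (a (Fin.last m)), g q ((∑ l, (a l : ℤ)) - n - 1 - c - ((σ x.1 + x.2.1 : ℕ) : ℤ))) +
        ∑ i, g (q + 1) ((∑ l : Fin m, (a l.castSucc : ℤ)) - n - 1 - c - σ i) := by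
  rw [Fintype.sum_prod_type, ← Finset.sum_add_distrib]
  refine Finset.sum_congr rfl fun i _ => ?_
  rw [g_sub hq (a (Fin.last m)), add_comm, Finset.sum_range]
  congr 1
  · refine Finset.sum_congr rfl fun x _ => congrArg (g q) ?_
    rw [Fin.sum_univ_castSucc]
    push_cast
    ring
  · refine congrArg (g (q + 1)) ?_
    ring

variable {k : Type u} [Field k] {n : ℕ}

theorem dim_castSucc_le {r : ℕ} {a : Fin (r + 1) → ℕ} (G : ∀ l : Fin (r + 1), LefPen.Form n k (a l)) (hr : r + 1 ≤ n)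
    (ha : ∀ l, 1 ≤ a l)
    (hdim : topologicalKrullDim ↥(LefPen.ciIdeal G).subscheme ≤ ((n - (r + 1) : ℕ) : WithBot ℕ∞)) :
    topologicalKrullDim ↥(LefPen.ciIdeal fun l : Fin r => G l.castSucc).subscheme ≤ ((n - r : ℕ) : WithBot ℕ∞) := by
  classical
  let S := MvPolynomial (Fin (n + 1)) k
  let I : Ideal S := Ideal.span (Set.range fun l => (G l : S))
  let I' : Ideal S := Ideal.span (Set.range fun l : Fin r => (G l.castSucc : S))
  have hI : I.IsHomogeneous (CohB1.polyGrading n k) :=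
    Ideal.homogeneous_span _ _ (by rintro _ ⟨j, rfl⟩; exact ⟨a j, (G j).2⟩)
  have hI' : I'.IsHomogeneous (CohB1.polyGrading n k) :=
    Ideal.homogeneous_span _ _ (by rintro _ ⟨j, rfl⟩; exact ⟨a j.castSucc, (G j.castSucc).2⟩)
  have hcone : ringKrullDim (S ⧸ I) ≤ ((n - (r + 1) + 1 : ℕ) : WithBot ℕ∞) :=
    CI20.dim_cone_le hI (by rw [← CI20.dim_eq]; exact hdim)
  rw [CI20.dim_eq]
  refine SerrePn27.topologicalKrullDim_le_of_components fun Z hZ => ?_
  obtain ⟨q, hq, hqdim⟩ := ProjDim.exists_minimalPrime_of_component hI' hZ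
  haveI := hq.1.1
  obtain ⟨e, he⟩ := ProjDim.exists_nat_dim_quotient q
  refine ProjDim.add_one_le_add_one_iff.1 ?_
  rw [hqdim, he]
  rcases Nat.eq_zero_or_pos e with rfl | he0
  · exact_mod_cast Nat.zero_le _
  obtain ⟨z, hz, -⟩ := ProjDim.exists_point_of_minimalPrime hI' hq (by rw [he]; exact_mod_cast he0)
  have hsup : q ⊔ Ideal.span (({(G (Fin.last r) : S)} : Finset S) : Set S) ≤ ProjDim.mIdeal k n := by
    refine sup_le (hz ▸ (ProjDim.lt_mIdeal z).le) (Ideal.span_le.2 ?_)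
    rw [Finset.coe_singleton, Set.singleton_subset_iff, SetLike.mem_coe, ProjDim.mem_mIdeal]
    exact MvPolynomial.IsHomogeneous.coeff_eq_zero ((G _).2 : MvPolynomial.IsHomogeneous _ _)
      (by rw [map_zero]; have := ha (Fin.last r); omega)
  obtain ⟨q', hq', -⟩ := Ideal.exists_minimalPrimes_le hsup
  haveI := hq'.1.1
  have h := ProjDim.dim_le_dim_add_card q {(G (Fin.last r) : S)} hq'
  rw [Finset.card_singleton] at h
  have hle : I ≤ q' := by
    refine Ideal.span_le.2 ?_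
    rintro _ ⟨l, rfl⟩
    refine Fin.lastCases ?_ (fun i => ?_) l
    · exact hq'.1.2 (Ideal.mem_sup_right (Ideal.subset_span (Finset.mem_coe.2 (Finset.mem_singleton_self _))))
    · exact hq'.1.2 (Ideal.mem_sup_left (hq.1.2 (Ideal.subset_span ⟨i, rfl⟩)))
  have h2 : ringKrullDim (S ⧸ q') ≤ ((n - (r + 1) + 1 : ℕ) : WithBot ℕ∞) :=
    le_trans (ringKrullDim_le_of_surjective (Ideal.Quotient.factor hle) (Ideal.Quotient.factor_surjective hle)) hcone
  rw [he] at h
  have h3 : ((e : ℕ) : WithBot ℕ∞) ≤ ((n - (r + 1) + 1 + 1 : ℕ) : WithBot ℕ∞) :=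
    h.trans (le_trans (add_le_add h2 le_rfl) (le_of_eq (by push_cast; rfl)))
  have h4 : e ≤ n - r + 1 := by
    have : e ≤ n - (r + 1) + 1 + 1 := by exact_mod_cast h3
    omega
  exact_mod_cast h4

/-- No cohomology above the dimension. -/
theorem subsingleton_above {r : ℕ} {a : Fin r → ℕ} (G : ∀ l, LefPen.Form n k (a l)) {e : ℕ}
    (hdim : topologicalKrullDim ↥(LefPen.ciIdeal G).subscheme ≤ (e : WithBot ℕ∞)) (t : ℤ) {p : ℕ} (hp : e < p) :
    Subsingleton (Coh.HH (CohB1.ProjSpace n k) (CMReg.Ft (ClSub.quotMod (LefPen.ciIdeal G)) t) p) := by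
  let j := (LefPen.ciIdeal G).subschemeι
  letI : (LefPen.ciIdeal G).subscheme.Over (Spec (CommRingCat.of k)) := ⟨j ≫ CohB1.ProjSpace.toSpec n k⟩
  let M := (Scheme.Modules.pullback j).obj (Twist.twistProjSpace n k t)
  haveI : M.IsQuasicoherent := InvExt.isQuasicoherent_of_isInvertible
    (RelProjK.isInvertible_pullback j (CMReg.isInvertible_twist (n := n) (k := k) t))
  obtain ⟨e'⟩ := Snapper.nonempty_HH_linearEquiv_pushforward (A := k) j rfl M p
  obtain ⟨e3⟩ := CI20.nonempty_projection j t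
  haveI := Euler.isNoetherian_of_proper (X := CohB1.ProjSpace n k) k
  haveI : NoetherianSpace ↥(LefPen.ciIdeal G).subscheme := j.isClosedEmbedding.isInducing.noetherianSpace
  haveI : Subsingleton (Coh.HH (LefPen.ciIdeal G).subscheme M p) :=
    GVanish.subsingleton_H_of_krullDim_le (X := TopCat.of ↥(LefPen.ciIdeal G).subscheme) e hdim (Coh.toAb M) p hp
  exact ((Euler.hhEquiv (A := k) e3 p).trans e'.symm).toEquiv.subsingleton

theorem injective_of_exact {A B C : Type*} [AddCommGroup A] [AddCommGroup B] [AddCommGroup C] [Module k A]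
    [Module k B] [Module k C] {f : A →ₗ[k] B} {g : B →ₗ[k] C} [Subsingleton A] (h : Function.Exact f g) :
    Function.Injective g := fun x y hxy => by
  obtain ⟨z, hz⟩ := (h (x - y)).1 (by rw [map_sub, hxy, sub_self])
  rwa [Subsingleton.elim z 0, map_zero, eq_comm, sub_eq_zero] at hz

theorem top_count {S : ShortComplex (CohB1.ProjSpace n k).Modules} (hS : S.ShortExact) (q : ℕ)
    (h2 : Subsingleton (Coh.HH (CohB1.ProjSpace n k) S.X₂ q))
    (h3 : Subsingleton (Coh.HH (CohB1.ProjSpace n k) S.X₃ (q + 1)))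
    (hf1 : Module.Finite k (Coh.HH (CohB1.ProjSpace n k) S.X₁ (q + 1)))
    (hf2 : Module.Finite k (Coh.HH (CohB1.ProjSpace n k) S.X₂ (q + 1))) :
    Module.Finite k (Coh.HH (CohB1.ProjSpace n k) S.X₃ q) ∧
      Module.finrank k (Coh.HH (CohB1.ProjSpace n k) S.X₃ q) + Module.finrank k (Coh.HH (CohB1.ProjSpace n k) S.X₂ (q + 1)) =
        Module.finrank k (Coh.HH (CohB1.ProjSpace n k) S.X₁ (q + 1)) := by
  have hinj : Function.Injective (hhDelta k hS q) := injective_of_exact (Cohom.exact₃ (A := k) hS q)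
  have hsurj : Function.Surjective (hhMap k S.f (q + 1)) := fun y =>
    (Cohom.exact₂ (A := k) hS (q + 1) y).1 (@Subsingleton.elim _ h3 _ _)
  haveI := hf1
  haveI := hf2
  exact ⟨Module.Finite.of_injective _ hinj,
    (CI20.finrank_of_short (hhDelta k hS q) (hhMap k S.f (q + 1)) hinj (Cohom.exact₁ (A := k) hS q) hsurj).2⟩

theorem finrank_congr {A B : (CohB1.ProjSpace n k).Modules} (e : A ≅ B) (q : ℕ) :
    Module.finrank k (Coh.HH (CohB1.ProjSpace n k) A q) = Module.finrank k (Coh.HH (CohB1.ProjSpace n k) B q) :=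
  (Euler.hhEquiv (A := k) e q).finrank_eq

theorem top_count' {S : ShortComplex (CohB1.ProjSpace n k).Modules} (hS : S.ShortExact) (q : ℕ)
    (h2 : Subsingleton (Coh.HH (CohB1.ProjSpace n k) S.X₂ q))
    (h3 : Subsingleton (Coh.HH (CohB1.ProjSpace n k) S.X₃ (q + 1))) {B : (CohB1.ProjSpace n k).Modules} (e : S.X₁ ≅ B)
    {u v : ℕ}
    (h1 : Module.Finite k (Coh.HH (CohB1.ProjSpace n k) B (q + 1)) ∧ Module.finrank k (Coh.HH (CohB1.ProjSpace n k) B (q + 1)) = u)
    (h2' : Module.Finite k (Coh.HH (CohB1.ProjSpace n k) S.X₂ (q + 1)) ∧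
      Module.finrank k (Coh.HH (CohB1.ProjSpace n k) S.X₂ (q + 1)) = v) :
    Module.Finite k (Coh.HH (CohB1.ProjSpace n k) S.X₃ q) ∧
      Module.finrank k (Coh.HH (CohB1.ProjSpace n k) S.X₃ q) + v = u := by
  haveI := h1.1
  obtain ⟨hf, hr⟩ := top_count hS q h2 h3 (Module.Finite.equiv (Euler.hhEquiv (A := k) e (q + 1)).symm) h2'.1
  refine ⟨hf, ?_⟩
  rw [finrank_congr e, h1.2, h2'.2] at hr
  exact hr

/-- The top cohomology is counted by binomial coefficients. -/
theorem finrank_top (r : ℕ) : ∀ (a : Fin r → ℕ) (G : ∀ l, LefPen.Form n k (a l)), (∀ l, 1 ≤ a l) → r < n →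
    topologicalKrullDim ↥(LefPen.ciIdeal G).subscheme ≤ ((n - r : ℕ) : WithBot ℕ∞) →
    ∃ (ι : Type) (_ : Fintype ι) (σ : ι → ℕ), (∃ i, σ i = 0) ∧ ∀ c : ℤ,
      Module.Finite k (Coh.HH (CohB1.ProjSpace n k) (CMReg.Ft (ClSub.quotMod (LefPen.ciIdeal G)) c) (n - r)) ∧
      Module.finrank k (Coh.HH (CohB1.ProjSpace n k) (CMReg.Ft (ClSub.quotMod (LefPen.ciIdeal G)) c) (n - r)) =
        ∑ i, g (n - r) ((∑ l, (a l : ℤ)) - n - 1 - c - σ i) := by
  induction r with
  | zero =>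
    intro a G _ hn _
    refine ⟨Unit, inferInstance, fun _ => 0, ⟨(), rfl⟩, fun c => ?_⟩
    have hI : LefPen.ciIdeal G = ⊥ := le_bot_iff.1 (iSup_le fun l => l.elim0)
    haveI : IsIso (LefPen.ciIdeal G).subschemeι := (Scheme.isIso_subschemeι_iff_eq_bot _).2 hI
    haveI := CI20.isIso_unitToPush (LefPen.ciIdeal G).subschemeι
    let O := Twist.twistProjSpace n k c
    let e : CMReg.Ft (Coh.structureModule (CohB1.ProjSpace n k)) c ≅
        CMReg.Ft (ClSub.quotMod (LefPen.ciIdeal G)) c :=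
      (CMReg.ftFun c).mapIso (asIso (ClSub.toSubscheme (LefPen.ciIdeal G)))
    let e2 : CohB1.tensorMod (Coh.structureModule (CohB1.ProjSpace n k)) O ≅ O := OX.tensorUnitLeftIso O
    let e' : CMReg.Ft (ClSub.quotMod (LefPen.ciIdeal G)) c ≅ O := e.symm ≪≫ e2
    obtain ⟨hf, hr⟩ := CI20.finrank_Htop (k := k) n (by omega) c
    haveI := hf
    have hn0 : n - 0 = n := Nat.sub_zero n
    rw [hn0]
    refine ⟨Module.Finite.equiv (Euler.hhEquiv (A := k) e' n).symm, ?_⟩
    rw [(Euler.hhEquiv (A := k) e' n).finrank_eq, hr]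
    simp only [Finset.univ_unique, Finset.sum_singleton, Finset.univ_eq_empty, Finset.sum_empty, g]
    congr 1
    push_cast
    omega
  | succ m ih =>
    intro a G ha hmn hdim
    have hdim' := dim_castSucc_le G (by omega) ha hdim
    obtain ⟨ι, _, σ, ⟨i₀, hi₀⟩, hσ⟩ := ih (fun l => a l.castSucc) (fun l => G l.castSucc) (fun l => ha _) (by omega) hdim'
    have hreg : CI20.RegForms G := CI20.regForms_of_dim (by omega) ha G (by rw [← CI20.dim_eq]; exact hdim)
    have hne : G (Fin.last m) ≠ 0 := fun h => hreg.ne_zero ha (Fin.last m) (by rw [h]; rfl)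
    obtain ⟨K, f, q, w, hS, ⟨eK⟩, -⟩ := CI20.exists_step G hreg hne
    refine ⟨ι × Fin (a (Fin.last m)), inferInstance, fun x => σ x.1 + x.2.1,
      ⟨(i₀, ⟨0, ha _⟩), by simp [hi₀]⟩, fun c => ?_⟩
    let T : ShortComplex (CohB1.ProjSpace n k).Modules :=
      ShortComplex.mk (X₁ := CMReg.Ft K c) (X₂ := CMReg.Ft (ClSub.quotMod (LefPen.ciIdeal fun l : Fin m => G l.castSucc)) c)
        (X₃ := CMReg.Ft (ClSub.quotMod (LefPen.ciIdeal G)) c) (CI20.ftMap f c) (CI20.ftMap q c)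
        ((ShortComplex.mk f q w).map (CMReg.ftFun c)).zero
    have hS' : T.ShortExact := CMReg.ft_shortExact hS c
    obtain ⟨e2⟩ := CMReg.nonempty_Ft_Ft (ClSub.quotMod (LefPen.ciIdeal fun l : Fin m => G l.castSucc))
      (-(a (Fin.last m) : ℤ)) c (-(a (Fin.last m) : ℤ) + c) rfl
    let eK' : CMReg.Ft K c ≅ CMReg.Ft (ClSub.quotMod (LefPen.ciIdeal fun l : Fin m => G l.castSucc))
        (-(a (Fin.last m) : ℤ) + c) := (CMReg.ftFun c).mapIso eK ≪≫ e2
    obtain ⟨hf1, hr1⟩ := hσ (-(a (Fin.last m) : ℤ) + c)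
    obtain ⟨hf2, hr2⟩ := hσ c
    obtain ⟨p, hp⟩ : ∃ p, n - (m + 1) = p + 1 := ⟨n - (m + 1) - 1, by omega⟩
    have hnm : n - m = p + 1 + 1 := by omega
    rw [hnm] at hf1 hf2 hr1 hr2
    rw [hp] at hdim ⊢
    have v2 : Subsingleton (Coh.HH (CohB1.ProjSpace n k) T.X₂ (p + 1)) :=
      (CI20.vanishing_and_surjective m _ _ (fun l => ha _) hreg.castSucc (by omega)).1 c (p + 1) (by omega) (by omega)
    have habove : Subsingleton (Coh.HH (CohB1.ProjSpace n k) T.X₃ (p + 1 + 1)) :=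
      subsingleton_above G hdim c (p := p + 1 + 1) (by omega)
    obtain ⟨hf, hr⟩ := top_count' hS' (p + 1) v2 habove eK' ⟨hf1, hr1⟩ ⟨hf2, hr2⟩
    refine ⟨hf, ?_⟩
    rw [sum_step σ (by omega) a n c] at hr
    exact Nat.add_right_cancel hr

end GrothLib.HypCI12
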